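import Cfsg.Agent.H704.S8.Defs
import Cfsg.Agent.H940.EngData
import Cfsg.Agent.H539.IdxOK

/-!
# Tools for the FROB rows of S4908 (helper772)

* `congr` : `FrobRow` is invariant under isomorphisms;
* `frobRow_of` : the Frobenius subgroup `P : Q` from `q ∣ |N(P)|`, `q ∤ |C(P)|`;
* `exists_simple` : a group with a self-centralizing subgroup of prime order `r ∥ |Y|` and no arithmetic room for a normal
  `r'`-subgroup has a simple normal subgroup `M` with `r ∣ |M|`, `|Y| r ∣ |M| |N(R)|`;
* `card_classes_of_cov` : a class number bound from a cover of the classes;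
* `bound_of_simple` : `|T| k(T) ≤ |M| i² k(M)`, `i = |T : M|`.
-/

set_option autoImplicit false

namespace Cfsg.Agent.H772.S8

open Cfsg Subgroup Cfsg.Agent.H704.S8 Cfsg.Agent.H940.Eng

universe u v

theorem card_classes_congr {G : Type u} {H : Type v} [Group G] [Group H] (e : G ≃* H) :
    Nat.card (ConjClasses G) = Nat.card (ConjClasses H) := by
  refine Nat.card_congr ⟨ConjClasses.map e.toMonoidHom, ConjClasses.map e.symm.toMonoidHom, ?_, ?_⟩
  · intro c
    obtain ⟨g, rfl⟩ := ConjClasses.exists_rep c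
    exact congrArg ConjClasses.mk (e.symm_apply_apply g)
  · intro c
    obtain ⟨g, rfl⟩ := ConjClasses.exists_rep c
    exact congrArg ConjClasses.mk (e.apply_symm_apply g)

/-- `FrobRow` is invariant under isomorphisms -/
theorem congr {X : Type u} {Y : Type v} [Group X] [Group Y] (e : X ≃* Y) {c : ℕ} {D : Set ℕ} (h : FrobRow c D Y) :
    FrobRow c D X := by
  obtain ⟨P, Q, h1, h2, h3, h4, h5⟩ := h
  have hc : ∀ A : Subgroup Y, Nat.card (A.map e.symm.toMonoidHom) = Nat.card A := fun A =>
    Subgroup.card_map_of_injective (f := e.symm.toMonoidHom) e.symm.injective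
  refine ⟨P.map e.symm.toMonoidHom, Q.map e.symm.toMonoidHom, by rw [hc]; exact h1, ?_, ?_, ?_, ?_⟩
  · rintro _ ⟨g, hg, rfl⟩
    rw [mem_normalizer_iff]
    intro x
    have h6 := mem_normalizer_iff.1 (h2 hg) (e x)
    constructor
    · rintro ⟨a, ha, rfl⟩
      refine ⟨g * a * g⁻¹, ?_, by simp⟩
      have h7 : e (e.symm.toMonoidHom a) = a := e.apply_symm_apply a
      rw [h7] at h6
      exact h6.1 ha
    · rintro ⟨a, ha, hax⟩
      refine ⟨e x, h6.2 ?_, e.symm_apply_apply x⟩
      have h7 : e (e.symm a) = e (e.symm g * x * (e.symm g)⁻¹) := congrArg e hax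
      rw [e.apply_symm_apply, map_mul, map_mul, map_inv, e.apply_symm_apply] at h7
      rw [← h7]
      exact ha
  · rintro _ ⟨a, ha, rfl⟩ _ ⟨g, hg, rfl⟩ hag
    have h7 : g * a = a * g := by
      have h8 := congrArg e hag
      rw [map_mul, map_mul] at h8
      have h9 : e (e.symm.toMonoidHom a) = a := e.apply_symm_apply a
      have h10 : e (e.symm.toMonoidHom g) = g := e.apply_symm_apply g
      rwa [h9, h10] at h8
    rcases h3 a ha g hg h7 with rfl | rfl
    · exact Or.inl (map_one _)
    · exact Or.inr (map_one _)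
  · intro h6
    exact h4 ((Subgroup.map_eq_bot_iff_of_injective _ e.symm.injective).1 h6)
  · intro T hT hPQ hD
    have hTe : (T.map e.toMonoidHom) ≠ ⊤ := by
      intro h6
      apply hT
      rw [eq_top_iff]
      intro x _
      have h7 : e x ∈ T.map e.toMonoidHom := by rw [h6]; trivial
      obtain ⟨t, ht, hte⟩ := h7
      have h8 : t = x := e.injective hte
      rw [← h8]
      exact ht
    have hmem : ∀ A : Subgroup Y, A.map e.symm.toMonoidHom ≤ T → A ≤ T.map e.toMonoidHom := by
      intro A hA a ha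
      exact ⟨e.symm a, hA ⟨a, ha, rfl⟩, e.apply_symm_apply a⟩
    have hidx : (T.map e.toMonoidHom).index = T.index :=
      T.index_map_equiv e
    have h6 := h5 (T.map e.toMonoidHom) hTe (hPQ.imp (hmem P) (hmem Q)) (by rw [hidx]; exact hD)
    have e1 : T ≃* (T.map e.toMonoidHom) := T.equivMapOfInjective e.toMonoidHom e.injective
    rw [← Nat.card_congr e1.toEquiv, ← card_classes_congr e1, ← Nat.card_congr e.toEquiv] at h6
    exact h6

/-- the Frobenius subgroup -/
theorem frobRow_of {X : Type u} [Group X] [Finite X] {c : ℕ} {D : Set ℕ} {p q : ℕ} (hp : p.Prime) (hq : q.Prime)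
    {P : Subgroup X} (hP : Nat.card P = p) (hN : q ∣ Nat.card (normalizer (P : Set X)))
    (hC : ¬ q ∣ Nat.card (centralizer (P : Set X)))
    (hT : ∀ T : Subgroup X, T ≠ ⊤ → (p ∣ Nat.card T ∨ q ∣ Nat.card T) → (∃ d ∈ D, T.index ∣ d) →
      c * (Nat.card T * Nat.card (ConjClasses T)) ≤ Nat.card X) : FrobRow c D X := by
  have := Fact.mk hp
  have := Fact.mk hq
  obtain ⟨x, hx⟩ := exists_prime_orderOf_dvd_card' q hN
  have hxo : orderOf (x : X) = q := by rw [Subgroup.orderOf_coe, hx]
  have hQc : Nat.card (zpowers (x : X)) = q := by rw [Nat.card_zpowers, hxo]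
  refine ⟨P, zpowers (x : X), by rw [hP]; exact hp, by rw [zpowers_le]; exact x.2, ?_, ?_, ?_⟩
  · intro a ha g hg h
    by_contra hne
    push Not at hne
    obtain ⟨ha1, hg1⟩ := hne
    apply hC
    have h1 : g ∈ centralizer (P : Set X) := by
      rw [mem_centralizer_iff]
      intro b hb
      have h2 : zpowers a = P := by
        apply eq_of_le_of_card_ge (zpowers_le.2 ha)
        have h3 : Nat.card (zpowers a) ∣ p := hP ▸ card_dvd_of_le (zpowers_le.2 ha)
        rcases (Nat.dvd_prime hp).1 h3 with h4 | h4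
        · exact absurd (zpowers_eq_bot.1 (card_eq_one.1 h4)) ha1
        · rw [h4, hP]
      have h3 : b ∈ zpowers a := by rw [h2]; exact hb
      obtain ⟨k, rfl⟩ := mem_zpowers_iff.1 h3
      exact ((Commute.zpow_right (show Commute g a from h) k).eq).symm
    have h2 : orderOf g = q := by
      have h3 : orderOf g ∣ q := by
        rw [← hQc]
        exact Subgroup.orderOf_dvd_natCard _ hg
      rcases (Nat.dvd_prime hq).1 h3 with h4 | h4
      · exact absurd (orderOf_eq_one_iff.1 h4) hg1
      · exact h4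
    rw [← h2]
    exact Subgroup.orderOf_dvd_natCard _ h1
  · intro h
    rw [h, card_bot] at hQc
    exact hq.one_lt.ne hQc
  · intro T hT1 hPQ hD
    refine hT T hT1 ?_ hD
    rcases hPQ with h | h
    · exact Or.inl (hP ▸ card_dvd_of_le h)
    · exact Or.inr (hQc ▸ card_dvd_of_le h)

/-- a class number bound from a cover of the classes -/
theorem card_classes_of_cov {S : Type u} {M : Type v} [Group S] [Group M] (φ : S →* M) (hφ : Function.Injective φ)
    {A : Type*} (D : List A) (f : A → M) (cov : ∀ g : S, g = 1 ∨ ∃ r ∈ D, ∃ x : S, φ x = f r ∧ IsConj x g) :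
    Nat.card (ConjClasses S) ≤ D.length + 1 := by
  classical
  let F : Option (Fin D.length) → ConjClasses S := fun o => match o with
    | none => ConjClasses.mk 1
    | some i => if h : ∃ x : S, φ x = f (D.get i) then ConjClasses.mk h.choose else ConjClasses.mk 1
  have hF : Function.Surjective F := by
    intro c
    obtain ⟨g, rfl⟩ := ConjClasses.exists_rep c
    rcases cov g with rfl | ⟨r, hr, x, hx, hxg⟩
    · exact ⟨none, rfl⟩
    · obtain ⟨i, hi⟩ := List.get_of_mem hr
      refine ⟨some i, ?_⟩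
      have h : ∃ x : S, φ x = f (D.get i) := ⟨x, by rw [hi]; exact hx⟩
      show (if h : ∃ x : S, φ x = f (D.get i) then ConjClasses.mk h.choose else ConjClasses.mk 1) = _
      rw [dif_pos h]
      have h1 : h.choose = x := hφ (by rw [h.choose_spec, hi, hx])
      rw [h1]
      exact ConjClasses.mk_eq_mk_iff_isConj.2 hxg
  have h1 := Nat.card_le_card_of_surjective F hF
  rw [Nat.card_eq_fintype_card (α := Option (Fin D.length)), Fintype.card_option, Fintype.card_fin] at h1
  exact h1

/-- `|T| k(T) ≤ |M| i² k(M)` -/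
theorem bound_of_simple {T : Type u} [Group T] [Finite T] (M : Subgroup T) {i s k : ℕ} (hs : Nat.card M = s)
    (hi : Nat.card T = s * i) (hk : Nat.card (ConjClasses M) ≤ k) :
    Nat.card T * Nat.card (ConjClasses T) ≤ s * i * (i * k) := by
  have h1 : M.index = i := by
    have h2 := M.card_mul_index
    rw [hs, hi] at h2
    have h3 : 0 < s := hs ▸ Nat.card_pos
    exact Nat.eq_of_mul_eq_mul_left h3 h2
  have h2 := Cfsg.Agent.H540.ClassNum.le_index_mul' M
  rw [h1] at h2
  rw [hi]
  exact Nat.mul_le_mul_left _ (h2.trans (Nat.mul_le_mul_left _ hk))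

/-- a self-centralizing subgroup of prime order acts without fixed points on the invariant `r'`-subgroups -/
theorem modEq_one {Y : Type u} [Group Y] [Finite Y] {r : ℕ} (hr : r.Prime) {R Q : Subgroup Y} (hR : Nat.card R = r)
    (hC : Nat.card (centralizer (R : Set Y)) = r) (hRQ : R ≤ normalizer (Q : Set Y)) (hQ : ¬ r ∣ Nat.card Q) :
    Nat.card Q % r = 1 % r := by
  have := Fact.mk hr
  let _ : MulAction R Q := {
    smul := fun a z => ⟨(a : Y) * z * (a : Y)⁻¹, (mem_normalizer_iff.1 (hRQ a.2) z).1 z.2⟩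
    one_smul := fun z => Subtype.ext (by show (1 : Y) * z * (1 : Y)⁻¹ = z; simp)
    mul_smul := fun a b z => Subtype.ext (by
      show ((a : Y) * b) * z * ((a : Y) * b)⁻¹ = a * (b * z * (b : Y)⁻¹) * (a : Y)⁻¹
      group) }
  have hsm : ∀ (a : R) (z : Q), ((a • z : Q) : Y) = (a : Y) * z * (a : Y)⁻¹ := fun _ _ => rfl
  have hRp : IsPGroup r R := IsPGroup.of_card (n := 1) (by rw [hR, pow_one])
  have hmod : Nat.card Q ≡ Nat.card (MulAction.fixedPoints R Q) [MOD r] := hRp.card_modEq_card_fixedPoints Q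
  have h1 : Nat.card (MulAction.fixedPoints R Q) = 1 := by
    have : Subsingleton (MulAction.fixedPoints R Q) := by
      refine ⟨fun z w => ?_⟩
      have key : ∀ z : MulAction.fixedPoints R Q, ((z : Q) : Y) = 1 := by
        intro z
        have h2 : ((z : Q) : Y) ∈ Q ⊓ centralizer (R : Set Y) := by
          refine mem_inf.2 ⟨(z : Q).2, ?_⟩
          rw [mem_centralizer_iff]
          intro a ha
          have h3 := congrArg Subtype.val (z.2 ⟨a, ha⟩)
          rw [hsm] at h3
          have h4 : a * ((z : Q) : Y) * a⁻¹ = ((z : Q) : Y) := h3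
          calc a * ((z : Q) : Y) = a * ((z : Q) : Y) * a⁻¹ * a := by group
            _ = ((z : Q) : Y) * a := by rw [h4]
        have h3 : Nat.card ↥(Q ⊓ centralizer (R : Set Y)) = 1 := by
          have h4 : Nat.card ↥(Q ⊓ centralizer (R : Set Y)) ∣ r := hC ▸ card_dvd_of_le inf_le_right
          rcases (Nat.dvd_prime hr).1 h4 with h5 | h5
          · exact h5
          · exact absurd (h5 ▸ card_dvd_of_le (inf_le_left : Q ⊓ centralizer (R : Set Y) ≤ Q)) hQ
        rw [card_eq_one.1 h3] at h2
        exact mem_bot.1 h2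
      exact Subtype.ext (Subtype.ext (by rw [key z, key w]))
    have : Nonempty (MulAction.fixedPoints R Q) := ⟨⟨1, fun a => Subtype.ext (by rw [hsm]; simp)⟩⟩
    exact Nat.card_unique
  rw [h1] at hmod
  exact hmod

/-- an invariant Sylow subgroup of a normal `r'`-subgroup -/
theorem exists_inv {Y : Type u} [Group Y] [Finite Y] {r : ℕ} (hr : r.Prime) (hY : r ∣ Nat.card Y) {K : Subgroup Y}
    [K.Normal] (hrK : ¬ r ∣ Nat.card K) {p : ℕ} (hp : p.Prime) :
    ∃ Q R : Subgroup Y, Nat.card Q = p ^ (Nat.card K).factorization p ∧ Nat.card R = r ∧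
      R ≤ normalizer (Q : Set Y) ∧ Q ≤ K := by
  have := Fact.mk hr
  have := Fact.mk hp
  let Q0 : Sylow p K := default
  have hfr : normalizer (((Q0 : Subgroup K).map K.subtype : Subgroup Y) : Set Y) ⊔ K = ⊤ :=
    Sylow.normalizer_sup_eq_top Q0
  have hrN : r ∣ Nat.card (normalizer (((Q0 : Subgroup K).map K.subtype : Subgroup Y) : Set Y)) := by
    have h3 := card_sup_mul_card_inf K (normalizer (((Q0 : Subgroup K).map K.subtype : Subgroup Y) : Set Y))
    rw [sup_comm, hfr, card_top] at h3
    have h4 : r ∣ Nat.card K * Nat.card (normalizer (((Q0 : Subgroup K).map K.subtype : Subgroup Y) : Set Y)) := by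
      rw [← h3]
      exact Dvd.dvd.mul_right hY _
    exact (hr.dvd_mul.1 h4).resolve_left hrK
  obtain ⟨x, hx⟩ := exists_prime_orderOf_dvd_card' r hrN
  refine ⟨(Q0 : Subgroup K).map K.subtype, zpowers (x : Y), ?_, ?_, ?_, map_subtype_le _⟩
  · rw [card_map_of_injective K.subtype_injective]
    exact Q0.card_eq_multiplicity
  · rw [Nat.card_zpowers, Subgroup.orderOf_coe, hx]
  · rw [zpowers_le]
    exact x.2

/-- no room for a normal `r'`-subgroup -/
theorem eq_bot_of_normal {Y : Type u} [Group Y] [Finite Y] {r : ℕ} (hr : r.Prime) (hY : r ∣ Nat.card Y)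
    (hC : ∀ R : Subgroup Y, Nat.card R = r → Nat.card (centralizer (R : Set Y)) = r) {K : Subgroup Y} (hK : K.Normal)
    (hrK : ¬ r ∣ Nat.card K) (hpow : ∀ p a : ℕ, p.Prime → 0 < a → p ^ a ∣ Nat.card K →
      (Nat.card K).factorization p = a → p ^ a % r ≠ 1 % r) : K = ⊥ := by
  by_contra hne
  have h1 : Nat.card K ≠ 1 := fun h => hne (card_eq_one.1 h)
  obtain ⟨p, hp, hpk⟩ := Nat.exists_prime_and_dvd h1
  obtain ⟨Q, R, hQ, hR, hRQ, hQK⟩ := exists_inv hr hY hrK hp
  have hpos : 0 < (Nat.card K).factorization p :=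
    (hp.dvd_iff_one_le_factorization Nat.card_pos.ne').1 hpk
  refine hpow p _ hp hpos (Nat.ordProj_dvd _ _) rfl ?_
  rw [← hQ]
  exact modEq_one hr hR (hC R hR) hRQ fun h => hrK (h.trans (card_dvd_of_le hQK))

/-- a simple normal subgroup of order divisible by `r`, and its index -/
theorem exists_simple {Y : Type u} [Group Y] [Finite Y] {r : ℕ} (hr : r.Prime) (hY : r ∣ Nat.card Y)
    (h2 : ¬ r ^ 2 ∣ Nat.card Y) {N : ℕ}
    (hN : ∀ R : Subgroup Y, Nat.card R = r → Nat.card (normalizer (R : Set Y)) ∣ N)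
    (hno : ∀ K : Subgroup Y, K.Normal → ¬ r ∣ Nat.card K → K = ⊥) :
    ∃ M : Subgroup Y, M.Normal ∧ IsSimpleGroup M ∧ r ∣ Nat.card M ∧ Nat.card Y * r ∣ Nat.card M * N := by
  have := Fact.mk hr
  obtain ⟨M, hMn, hMs, hrM⟩ := exists_simple_normal hr hY h2 hno
  refine ⟨M, hMn, hMs, hrM, ?_⟩
  have hM2 : ¬ r ^ 2 ∣ Nat.card M := fun h => h2 (h.trans (card_subgroup_dvd_card M))
  let Q0 : Sylow r M := default
  have hQ0 : Nat.card Q0 = r := by
    rw [Q0.card_eq_multiplicity]
    have h3 : (Nat.card M).factorization r = 1 := by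
      have h4 : 1 ≤ (Nat.card M).factorization r := (hr.dvd_iff_one_le_factorization Nat.card_pos.ne').1 hrM
      have h5 : ¬ 2 ≤ (Nat.card M).factorization r := fun h =>
        hM2 ((hr.pow_dvd_iff_le_factorization Nat.card_pos.ne').2 h)
      omega
    rw [h3, pow_one]
  set R : Subgroup Y := (Q0 : Subgroup M).map M.subtype with hR
  have hRc : Nat.card R = r := by
    rw [hR, card_map_of_injective M.subtype_injective]
    exact hQ0
  have hfr : normalizer (R : Set Y) ⊔ M = ⊤ := Sylow.normalizer_sup_eq_top Q0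
  have h3 := card_sup_mul_card_inf M (normalizer (R : Set Y))
  rw [sup_comm, hfr, card_top] at h3
  have h4 : r ∣ Nat.card ↥(M ⊓ normalizer (R : Set Y)) := by
    rw [← hRc]
    exact card_dvd_of_le (le_inf (map_subtype_le _) le_normalizer)
  refine dvd_trans (Nat.mul_dvd_mul_left _ h4) ?_
  rw [h3]
  exact Nat.mul_dvd_mul_left _ (hN R hRc)

/-- the centralizers in a subgroup -/
theorem card_centralizer_sub {G : Type u} [Group G] [Finite G] {r : ℕ} (hr : r.Prime)
    (hC : ∀ R : Subgroup G, Nat.card R = r → Nat.card (centralizer (R : Set G)) = r) (T : Subgroup G)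
    {R : Subgroup T} (hR : Nat.card R = r) : Nat.card (centralizer (R : Set T)) = r := by
  have hR' : Nat.card (R.map T.subtype) = r := by rw [card_map_of_injective T.subtype_injective, hR]
  have h3 : (centralizer (R : Set T)).map T.subtype ≤ centralizer ((R.map T.subtype : Subgroup G) : Set G) := by
    rintro _ ⟨a, ha, rfl⟩
    rw [mem_centralizer_iff]
    rintro _ ⟨w, hw, rfl⟩
    exact congrArg Subtype.val ((mem_centralizer_iff.1 ha) w hw)
  have h4 : Nat.card (centralizer (R : Set T)) ∣ r := by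
    rw [← hC _ hR', ← card_map_of_injective (K := centralizer (R : Set T)) T.subtype_injective]
    exact card_dvd_of_le h3
  rcases (Nat.dvd_prime hr).1 h4 with h5 | h5
  · exfalso
    have : IsCyclic R := by
      have := Fact.mk hr
      exact isCyclic_of_prime_card hR
    have h6 : R ≤ centralizer (R : Set T) := by
      intro a ha
      rw [mem_centralizer_iff]
      intro b hb
      have h7 := (IsCyclic.isMulCommutative (α := R)).is_comm.comm ⟨b, hb⟩ ⟨a, ha⟩
      exact congrArg Subtype.val h7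
    have h7 := card_dvd_of_le h6
    rw [h5, hR] at h7
    exact hr.one_lt.ne' (Nat.dvd_one.1 h7)
  · exact h5

/-- the normalizers in a subgroup -/
theorem card_normalizer_sub {G : Type u} [Group G] [Finite G] {r N : ℕ}
    (hN : ∀ R : Subgroup G, Nat.card R = r → Nat.card (normalizer (R : Set G)) ∣ N) (T : Subgroup G)
    {R : Subgroup T} (hR : Nat.card R = r) : Nat.card (normalizer (R : Set T)) ∣ N := by
  have hR' : Nat.card (R.map T.subtype) = r := by rw [card_map_of_injective T.subtype_injective, hR]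
  refine dvd_trans ?_ (hN _ hR')
  rw [← card_map_of_injective (K := normalizer (R : Set T)) T.subtype_injective]
  apply card_dvd_of_le
  rintro _ ⟨a, ha, rfl⟩
  rw [mem_normalizer_iff]
  intro z
  constructor
  · rintro ⟨w, hw, rfl⟩
    exact ⟨_, (mem_normalizer_iff.1 ha w).1 hw, rfl⟩
  · rintro ⟨w, hw, hw'⟩
    have h4 : a⁻¹ * w * a ∈ R := by
      refine (mem_normalizer_iff.1 ha (a⁻¹ * w * a)).2 ?_
      have h6 : a * (a⁻¹ * w * a) * a⁻¹ = w := by group
      rw [h6]
      exact hw
    refine ⟨_, h4, ?_⟩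
    have h7 : (w : G) = (a : G) * z * (a : G)⁻¹ := hw'
    show ((a⁻¹ * w * a : T) : G) = z
    push_cast
    rw [h7]
    group

/-- the arithmetic of `eq_bot_of_normal` -/
def chkPow (l : List (ℕ × ℕ)) (r : ℕ) : Bool :=
  l.all fun x => x.1 == r || (List.range (x.2 + 1)).all fun a => a == 0 || x.1 ^ a % r != 1 % r

theorem hno_of {Y : Type u} [Group Y] [Finite Y] {r : ℕ} (hr : r.Prime) (hY : r ∣ Nat.card Y)
    (hC : ∀ R : Subgroup Y, Nat.card R = r → Nat.card (centralizer (R : Set Y)) = r) {l : List (ℕ × ℕ)} {n : ℕ}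
    (hv : OrdDiv.valid l n = true) (hd : Nat.card Y ∣ n) (hchk : chkPow l r = true) :
    ∀ K : Subgroup Y, K.Normal → ¬ r ∣ Nat.card K → K = ⊥ := by
  intro K hK hrK
  refine eq_bot_of_normal hr hY hC hK hrK ?_
  intro p a hp ha hpa _
  obtain ⟨b, hb, hab⟩ := OrdDiv.exists_pair hv hp ha ((hpa.trans (card_subgroup_dvd_card K)).trans hd)
  unfold chkPow at hchk
  rw [List.all_eq_true] at hchk
  have h1 := hchk _ hb
  rw [Bool.or_eq_true, beq_iff_eq, List.all_eq_true] at h1
  rcases h1 with h1 | h1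
  · exfalso
    have h2 : p = r := h1
    apply hrK
    rw [← h2]
    exact (dvd_pow_self p ha.ne').trans hpa
  · have h2 := h1 a (List.mem_range.2 (by omega))
    rw [Bool.or_eq_true, beq_iff_eq, bne_iff_ne] at h2
    rcases h2 with h2 | h2
    · omega
    · exact h2

/-- the simple normal subgroup of `T` and its order -/
theorem simple_cases {G : Type} [Group G] [Finite G] {n r N : ℕ} {ords : List ℕ} (ho : Ords.{0} n ords)
    (hn : Nat.card G = n) (hr : r.Prime) (h2 : ¬ r ^ 2 ∣ n)
    (hN : ∀ R : Subgroup G, Nat.card R = r → Nat.card (normalizer (R : Set G)) ∣ N) {T : Subgroup G}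
    (hrT : r ∣ Nat.card T) (hno : ∀ K : Subgroup T, K.Normal → ¬ r ∣ Nat.card K → K = ⊥) :
    ∃ M : Subgroup T, IsSimpleGroup M ∧ (Nat.card M = r ∨ Nat.card M ∈ ords) ∧ r ∣ Nat.card M ∧
      Nat.card T * r ∣ Nat.card M * N := by
  have hTn : Nat.card T ∣ n := hn ▸ card_subgroup_dvd_card T
  obtain ⟨M, -, hs, hrM, hd⟩ := exists_simple hr hrT (fun h => h2 (h.trans hTn)) (N := N)
    (fun R hR => card_normalizer_sub hN T hR) hno
  refine ⟨M, hs, ?_, hrM, hd⟩
  by_cases hc : ∀ a b : M, a * b = b * a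
  · left
    let _ : CommGroup M := { (inferInstance : Group M) with mul_comm := hc }
    exact ((Nat.prime_dvd_prime_iff_eq hr (IsSimpleGroup.prime_card (α := M))).1 hrM).symm
  · right
    exact ho M hs hc ((card_subgroup_dvd_card M).trans hTn)

end Cfsg.Agent.H772.S8
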