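import Cfsg.Agent.H772.S8.KMat
import Cfsg.Agent.H715.Fpr.M23

/-!
# S4908, FROB row of `M23` (helper772): the Frobenius subgroup `23 : 11`

A proper subgroup `T` with `23 ∣ |T|` has order at most `253` or is simple of order `6072`; if `23 ∤ |T|`, `11 ∣ |T|`, then `|T| ≤ 55`
or `T` is simple of order `660`, `7920`, `443520`.
-/

set_option autoImplicit false

namespace Cfsg.Agent.H772.S8.M23

open Cfsg Subgroup Cfsg.Agent.H704.S8 Cfsg.Agent.H940.Eng Cfsg.Agent.H940.Eng.D Cfsg.Agent.H715.Fpr.MathData
open Cfsg.Agent.OrdDiv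

universe u

theorem chk23 : chkPow l_m23 23 = true := by decide +kernel
theorem chk11 : chkPow l_m22 11 = true := by decide +kernel

theorem mul_k_le {T : Type u} [Group T] [Finite T] {a b : ℕ} (h : Nat.card T ≤ a) (hab : a * a ≤ b) :
    Nat.card T * Nat.card (ConjClasses T) ≤ b :=
  (Nat.mul_le_mul h (Cfsg.Agent.H540.ClassNum.card_conjClasses_le_card.trans h)).trans hab

/-- the class number of a simple group of order `6072` -/
theorem k_6072 {M : Type u} [Group M] [Finite M] (hs : IsSimpleGroup M) (hc : Nat.card M = 6072) :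
    Nat.card (ConjClasses M) ≤ 264 := by
  have hna : ¬ IsMulCommutative M := by
    intro h
    let _ : CommGroup M := { (inferInstance : Group M) with mul_comm := h.is_comm.comm }
    have h1 := IsSimpleGroup.prime_card (α := M)
    rw [hc] at h1
    norm_num at h1
  have h1 := Cfsg.Agent.H539.card_conjClasses_le_div (Cfsg.Agent.H539.center_eq_bot hna) (b := 23) (by norm_num)
    (fun K hK => by
      have h2 : Nat.card M ∣ (K.index).factorial := Cfsg.Agent.H940.MaxCls.card_dvd_factorial hK
      have h3 : 23 ∣ (K.index).factorial := (by rw [hc]; norm_num : 23 ∣ Nat.card M).trans h2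
      exact ((show Nat.Prime 23 by norm_num).dvd_factorial).1 h3)
  rw [hc] at h1
  exact h1

theorem bound (B : Base) {T : Subgroup Spor.M23} (hT : T ≠ ⊤) (h : 23 ∣ Nat.card T ∨ 11 ∣ Nat.card T) :
    1 * (Nat.card T * Nat.card (ConjClasses T)) ≤ Nat.card Spor.M23 := by
  have := Cfsg.Agent.H715.Fpr.M23.fin
  rw [one_mul, card23]
  have hTn : Nat.card T ∣ n_m23 := card23 ▸ card_subgroup_dvd_card T
  have hTpos : 0 < Nat.card T := Nat.card_pos
  have hTne : Nat.card T ≠ n_m23 := by
    intro h1
    apply hT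
    apply eq_top_of_card_eq
    rw [h1, card23]
  by_cases h23 : 23 ∣ Nat.card T
  · have hC : ∀ R : Subgroup Spor.M23, Nat.card R = 23 → Nat.card (centralizer (R : Set Spor.M23)) = 23 :=
      fun R hR => (cn23_23 hR).1
    obtain ⟨M, hs, hM, hrM, hd⟩ := simple_cases (ords_m23 B) card23 (r := 23) (N := 253) (by norm_num)
      (by decide +kernel) (fun R hR => (cn23_23 hR).2.dvd) h23
      (hno_of (by norm_num) h23 (fun R hR => card_centralizer_sub (by norm_num) hC T hR) v_m23 hTn chk23)
    have hd2 : Nat.card T ∣ Nat.card M * 11 := by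
      have h1 : Nat.card M * 253 = Nat.card M * 11 * 23 := by ring
      rw [h1] at hd
      exact Nat.dvd_of_mul_dvd_mul_right (by norm_num) hd
    have hMT : Nat.card M ∣ Nat.card T := card_subgroup_dvd_card M
    have h2 : Nat.card M = 23 ∨ Nat.card M = 6072 ∨ Nat.card M = 10200960 := by
      rcases hM with h3 | h3
      · exact Or.inl h3
      · simp only [o_m23, List.mem_cons, List.not_mem_nil, or_false] at h3
        rcases h3 with h3 | h3 | h3 | h3 | h3 | h3 | h3 | h3 | h3 | h3 | h3 <;> rw [h3] at hrM ⊢ <;> revert hrM <;> decide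
    rcases h2 with h3 | h3 | h3
    · rw [h3] at hd2
      exact mul_k_le (Nat.le_of_dvd (by norm_num) hd2) (by decide +kernel)
    · -- `T` is simple of order `6072`
      have h4 : Nat.card T = 6072 * 1 := by
        rw [h3] at hd2 hMT
        have h5 : Nat.card T ∣ Nat.gcd (6072 * 11) n_m23 := Nat.dvd_gcd hd2 hTn
        rw [show Nat.gcd (6072 * 11) n_m23 = 6072 by decide +kernel] at h5
        exact Nat.dvd_antisymm h5 hMT
      have h5 := bound_of_simple M h3 h4 (k_6072 hs h3)
      exact h5.trans (by decide +kernel)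
    · exfalso
      rw [h3] at hMT
      exact hTne (Nat.dvd_antisymm hTn hMT)
  · have h11 : 11 ∣ Nat.card T := h.resolve_left h23
    have hTn' : Nat.card T ∣ n_m22 := by
      have h1 : Nat.Coprime (Nat.card T) 23 := ((Nat.Prime.coprime_iff_not_dvd (by norm_num)).2 h23).symm
      have h2 : Nat.card T ∣ n_m22 * 23 := by
        rw [show n_m22 * 23 = n_m23 by decide +kernel]
        exact hTn
      exact h1.dvd_of_dvd_mul_right h2
    have hC : ∀ R : Subgroup Spor.M23, Nat.card R = 11 → Nat.card (centralizer (R : Set Spor.M23)) = 11 :=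
      fun R hR => (cn23_11 hR).1
    obtain ⟨M, hs, hM, hrM, hd⟩ := simple_cases (ords_m23 B) card23 (r := 11) (N := 55) (by norm_num)
      (by decide +kernel) (fun R hR => (cn23_11 hR).2.dvd) h11
      (hno_of (by norm_num) h11 (fun R hR => card_centralizer_sub (by norm_num) hC T hR) v_m22 hTn' chk11)
    have hd2 : Nat.card T ∣ Nat.card M * 5 := by
      have h1 : Nat.card M * 55 = Nat.card M * 5 * 11 := by ring
      rw [h1] at hd
      exact Nat.dvd_of_mul_dvd_mul_right (by norm_num) hd
    have hMT : Nat.card M ∣ Nat.card T := card_subgroup_dvd_card M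
    have h2 : Nat.card M = 11 ∨ Nat.card M = 660 ∨ Nat.card M = 7920 ∨ Nat.card M = 443520 := by
      rcases hM with h3 | h3
      · exact Or.inl h3
      · have h4 : ¬ 23 ∣ Nat.card M := fun h => h23 (h.trans hMT)
        simp only [o_m23, List.mem_cons, List.not_mem_nil, or_false] at h3
        rcases h3 with h3 | h3 | h3 | h3 | h3 | h3 | h3 | h3 | h3 | h3 | h3 <;> rw [h3] at hrM h4 ⊢ <;>
          revert hrM h4 <;> decide
    have key : ∀ s : ℕ, Nat.card M = s → Nat.gcd (s * 5) n_m22 = s → Nat.card T = s * 1 := by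
      intro s h3 h4
      rw [h3] at hd2 hMT
      have h5 : Nat.card T ∣ Nat.gcd (s * 5) n_m22 := Nat.dvd_gcd hd2 hTn'
      rw [h4] at h5
      rw [mul_one]
      exact Nat.dvd_antisymm h5 hMT
    rcases h2 with h3 | h3 | h3 | h3
    · rw [h3] at hd2
      exact mul_k_le (Nat.le_of_dvd (by norm_num) hd2) (by decide +kernel)
    · have h4 := key _ h3 (by decide +kernel)
      exact mul_k_le h4.le (by decide +kernel)
    · have h4 := key _ h3 (by decide +kernel)
      exact (bound_of_simple M h3 h4 (k_m11 ⟨hs, h3⟩)).trans (by decide +kernel)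
    · have h4 := key _ h3 (by decide +kernel)
      exact (bound_of_simple M h3 h4 (k_m22 ⟨hs, h3⟩)).trans (by decide +kernel)

/-- **FROB row of `M23`** -/
theorem row (B : Base) {X : Type u} [Group X] [Finite X] (hX : Cfsg.IsM23 X) (D : Set ℕ) : FrobRow 1 D X := by
  obtain ⟨e⟩ := Cfsg.Agent.S1664.result hX
  refine congr e ?_
  have := Cfsg.Agent.H715.Fpr.M23.fin
  obtain ⟨P, hP⟩ : ∃ P : Subgroup Spor.M23, Nat.card P = 23 :=
    exists_card_eq (by decide +kernel) (by rw [card23]; decide +kernel)
  refine frobRow_of (p := 23) (q := 11) (by norm_num) (by norm_num) hP ?_ ?_ fun T hT h _ => bound B hT h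
  · rw [(cn23_23 hP).2]; norm_num
  · rw [(cn23_23 hP).1]; norm_num

end Cfsg.Agent.H772.S8.M23
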