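import Cfsg.Agent.H772.S8.M23
import Cfsg.Agent.H715.Fpr.M24
import Cfsg.Agent.S0421
import Cfsg.Agent.S0422

/-!
# S4908, FROB row of `M24` (helper772): the Frobenius subgroup `23 : 11`

A proper subgroup `T` with `23 ∣ |T|` has order at most `253` or is simple of order `6072` or `10200960`; if `23 ∤ |T|`, `11 ∣ |T|`,
then `|T| ≤ 110` or `T` has a simple normal subgroup of index at most `2` and order `660`, `7920`, `95040`, `443520` (a Sylow
`2`-subgroup is not elementary abelian).
-/

set_option autoImplicit false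

namespace Cfsg.Agent.H772.S8.M24

open Cfsg Subgroup Cfsg.Agent.H704.S8 Cfsg.Agent.H940.Eng Cfsg.Agent.H940.Eng.D Cfsg.Agent.H715.Fpr.MathData
open Cfsg.Agent.OrdDiv Cfsg.Agent.SporadicStructure.M24El Cfsg.Agent.H729.M24Deg

universe u

theorem k_m12_model : Nat.card (ConjClasses Spor.M12) ≤ 120 := by
  have hfin : Finite Spor.M12 := Nat.finite_of_card_ne_zero (by rw [card12]; decide)
  have hle : Spor.M11 ≤ Spor.M12 := inf_le_left
  let e : Spor.M11.subgroupOf Spor.M12 ≃* Spor.M11 := subgroupOfEquivOfLe hle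
  have hc : Nat.card (Spor.M11.subgroupOf Spor.M12) = 7920 := by
    rw [Nat.card_congr e.toEquiv, card11]
    rfl
  have hfin11 : Finite Spor.M11 := Nat.finite_of_card_ne_zero (by rw [card11]; decide)
  have hi : (Spor.M11.subgroupOf Spor.M12).index = 12 := by
    have h1 := (Spor.M11.subgroupOf Spor.M12).card_mul_index
    rw [hc, card12, show n_m12 = 7920 * 12 by decide] at h1
    exact Nat.eq_of_mul_eq_mul_left (by norm_num) h1
  have h1 := Cfsg.Agent.H540.ClassNum.le_index_mul' (Spor.M11.subgroupOf Spor.M12)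
  rw [hi, card_classes_congr e] at h1
  exact h1.trans (Nat.mul_le_mul_left _ (k_m11 isM11))

open scoped Pointwise in
/-- `k(M12) ≤ 120` -/
theorem k_m12 {M : Type u} [Group M] [Finite M] (h : IsM12 M) : Nat.card (ConjClasses M) ≤ 120 := by
  obtain ⟨e1⟩ := Cfsg.Agent.S0421.result h _ Cfsg.Agent.H807.El.squareDodecad_mem
  have e2 : ↥(MulAction.stabilizer Cfsg.M24 Cfsg.Spor.squareDodecad) ≃* Cfsg.Spor.M12 :=
    { toFun := fun g => ⟨((g : Cfsg.M24) : Equiv.Perm Cfsg.GolayPt), (g : Cfsg.M24).2, g.2⟩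
      invFun := fun g => ⟨⟨(g : Equiv.Perm Cfsg.GolayPt), g.2.1⟩, g.2.2⟩
      left_inv := fun _ => rfl
      right_inv := fun _ => rfl
      map_mul' := fun _ _ => rfl }
  rw [card_classes_congr (e1.trans e2)]
  exact k_m12_model

/-- a `p`-group of order `p ^ n` with a fixed-point-free automorphism of prime order `r`, where `n` is the order of `p` mod `r`,
is elementary abelian -/
theorem sq_eq_one {Y : Type u} [Group Y] [Finite Y] {r n : ℕ} (hr : r.Prime) {R Q : Subgroup Y} (hR : Nat.card R = r)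
    (hC : Nat.card (centralizer (R : Set Y)) = r) (hRQ : R ≤ normalizer (Q : Set Y)) (hQ : Nat.card Q = 2 ^ n)
    (hr2 : ¬ r ∣ 2 ^ n) (hn : 0 < n) (hpow : ∀ a : ℕ, 0 < a → a < n → 2 ^ a % r ≠ 1 % r) : ∀ x ∈ Q, x * x = 1 := by
  have := Fact.mk Nat.prime_two
  have hQp : IsPGroup 2 Q := IsPGroup.of_card hQ
  -- invariant subgroups
  have key : ∀ Z : Subgroup Y, Z ≤ Q → Z ≠ ⊥ → (∀ a ∈ R, ∀ z ∈ Z, a * z * a⁻¹ ∈ Z) → Z = Q := by
    intro Z hZQ hZ hinv
    have hRZ : R ≤ normalizer (Z : Set Y) := by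
      intro a ha
      rw [mem_normalizer_iff]
      intro z
      refine ⟨fun h => hinv a ha z h, fun h => ?_⟩
      have h1 := hinv a⁻¹ (inv_mem ha) _ h
      have h2 : a⁻¹ * (a * z * a⁻¹) * a⁻¹⁻¹ = z := by group
      rw [h2] at h1
      exact h1
    have hd : Nat.card Z ∣ 2 ^ n := hQ ▸ card_dvd_of_le hZQ
    have h1 := modEq_one hr hR hC hRZ fun h => hr2 (h.trans hd)
    obtain ⟨a, ha, hZa⟩ := (Nat.dvd_prime_pow Nat.prime_two).1 hd
    rw [hZa] at h1
    have ha0 : 0 < a := by
      rcases Nat.eq_zero_or_pos a with h | h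
      · rw [h, pow_zero] at hZa
        exact absurd (card_eq_one.1 hZa) hZ
      · exact h
    have han : a = n := by
      by_contra hne
      exact hpow a ha0 (by omega) h1
    apply eq_of_le_of_card_ge hZQ
    rw [hZa, hQ, han]
  have hQnt : Nontrivial Q := by
    rw [← Finite.one_lt_card_iff_nontrivial, hQ]
    exact Nat.one_lt_two_pow hn.ne'
  -- `Q` is abelian
  have hab : Q ⊓ centralizer (Q : Set Y) = Q := by
    refine key _ inf_le_left ?_ ?_
    · have h1 : Nontrivial (center Q) := hQp.center_nontrivial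
      obtain ⟨z, hz⟩ := exists_ne (1 : center Q)
      intro h
      apply hz
      have h2 : ((z : Q) : Y) ∈ Q ⊓ centralizer (Q : Set Y) := by
        refine mem_inf.2 ⟨(z : Q).2, ?_⟩
        rw [mem_centralizer_iff]
        intro b hb
        exact congrArg Subtype.val (mem_center_iff.1 z.2 ⟨b, hb⟩)
      rw [h] at h2
      exact Subtype.ext (Subtype.ext (mem_bot.1 h2))
    · intro a ha z hz
      have haN := hRQ ha
      refine mem_inf.2 ⟨(mem_normalizer_iff.1 haN z).1 (mem_inf.1 hz).1, ?_⟩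
      rw [mem_centralizer_iff]
      intro b hb
      have h1 : a⁻¹ * b * a ∈ Q := by
        refine (mem_normalizer_iff.1 haN _).2 ?_
        have h2 : a * (a⁻¹ * b * a) * a⁻¹ = b := by group
        rw [h2]
        exact hb
      have h2 := mem_centralizer_iff.1 (mem_inf.1 hz).2 _ h1
      calc b * (a * z * a⁻¹) = a * ((a⁻¹ * b * a) * z) * a⁻¹ := by group
        _ = a * (z * (a⁻¹ * b * a)) * a⁻¹ := by rw [h2]
        _ = a * z * a⁻¹ * b := by group
  have hcomm : ∀ x ∈ Q, ∀ y ∈ Q, x * y = y * x := by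
    intro x hx y hy
    rw [← hab] at hy
    exact mem_centralizer_iff.1 (mem_inf.1 hy).2 x hx
  -- the involutions
  let Ω : Subgroup Y :=
    { carrier := {x | x ∈ Q ∧ x * x = 1}
      one_mem' := ⟨one_mem _, one_mul 1⟩
      mul_mem' := by
        rintro x y ⟨hx, hx2⟩ ⟨hy, hy2⟩
        refine ⟨mul_mem hx hy, ?_⟩
        calc x * y * (x * y) = x * (y * x) * y := by group
          _ = x * (x * y) * y := by rw [hcomm x hx y hy]
          _ = x * x * (y * y) := by group
          _ = 1 := by rw [hx2, hy2, one_mul]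
      inv_mem' := by
        rintro x ⟨hx, hx2⟩
        refine ⟨inv_mem hx, ?_⟩
        rw [← mul_inv_rev, hx2, inv_one] }
  have hΩ : Ω = Q := by
    refine key Ω (fun x hx => hx.1) ?_ ?_
    · have h2 : 2 ∣ Nat.card Q := by
        rw [hQ]
        exact dvd_pow_self 2 hn.ne'
      obtain ⟨x, hx⟩ := exists_prime_orderOf_dvd_card' 2 h2
      intro h
      have h3 : (x : Y) ∈ Ω := by
        refine ⟨x.2, ?_⟩
        have h4 := pow_orderOf_eq_one x
        rw [hx, pow_two] at h4
        exact congrArg Subtype.val h4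
      rw [h] at h3
      have h5 : x = 1 := Subtype.ext (mem_bot.1 h3)
      rw [h5, orderOf_one] at hx
      norm_num at hx
    · rintro a ha z ⟨hz, hz2⟩
      refine ⟨(mem_normalizer_iff.1 (hRQ ha) z).1 hz, ?_⟩
      calc a * z * a⁻¹ * (a * z * a⁻¹) = a * (z * z) * a⁻¹ := by group
        _ = 1 := by rw [hz2]; group
  intro x hx
  rw [← hΩ] at hx
  exact hx.2

/-- the elements of order dividing `4`, if a Sylow `2`-subgroup has exponent `2` -/
theorem sq_of_sylow {G : Type u} [Group G] [Finite G] {Q : Subgroup G} {n : ℕ} (hQ : Nat.card Q = 2 ^ n)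
    (hG : ¬ 2 ^ (n + 1) ∣ Nat.card G) (hsq : ∀ x ∈ Q, x * x = 1) {y : G} (hy : y ^ 4 = 1) : y * y = 1 := by
  have := Fact.mk Nat.prime_two
  have hQp : IsPGroup 2 Q := IsPGroup.of_card hQ
  have hidx : ¬ 2 ∣ Q.index := by
    intro h
    apply hG
    rw [← card_mul_index Q, hQ, pow_succ]
    exact Nat.mul_dvd_mul_left _ h
  have hyp : IsPGroup 2 (zpowers y) := by
    have h1 : orderOf y ∣ 2 ^ 2 := orderOf_dvd_of_pow_eq_one hy
    obtain ⟨a, -, ha⟩ := (Nat.dvd_prime_pow Nat.prime_two).1 h1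
    exact IsPGroup.of_card (n := a) (by rw [Nat.card_zpowers, ha])
  obtain ⟨S, hS⟩ := hyp.exists_le_sylow
  obtain ⟨g, hg⟩ := MulAction.exists_smul_eq G S (hQp.toSylow hidx)
  have h2 : g * y * g⁻¹ ∈ Q := by
    have h3 : g * y * g⁻¹ ∈ ((g • S : Sylow 2 G) : Subgroup G) := by
      rw [Sylow.coe_subgroup_smul, mem_pointwise_smul_iff_inv_smul_mem]
      have h4 : (MulAut.conj g)⁻¹ • (g * y * g⁻¹) = y := by
        rw [← map_inv, MulAut.smul_def, MulAut.conj_apply]
        group
      rw [h4]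
      exact hS (mem_zpowers y)
    rw [hg] at h3
    exact h3
  have h3 := hsq _ h2
  have h4 : g * (y * y) * g⁻¹ = 1 := by rw [← h3]; group
  have h5 : y * y = g⁻¹ * (g * (y * y) * g⁻¹) * g := by group
  rw [h5, h4]
  group

def c4 : ℕ := 969690129507075176546547461736478156

theorem ok4 : ok c4 = true := by decide +kernel

/-- an element of order 4 -/
theorem exists_four : ∃ y : Cfsg.M24, y ^ 4 = 1 ∧ y * y ≠ 1 := by
  refine ⟨el c4, el_pow_eq_one ok4 (by decide +kernel), ?_⟩
  have h1 : el c4 * el c4 = el (Cfsg.Agent.H729.MData.ppow c4 2) := by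
    rw [Cfsg.Agent.H729.Count.el_ppow ok4, pow_two]
  rw [h1]
  obtain ⟨i, hi, hi2⟩ : ∃ i < 24, Nat.beq (Cfsg.Agent.SporadicA.GolayPerm.papp (Cfsg.Agent.H729.MData.ppow c4 2) i) i = false := by
    decide +kernel
  exact el_ne_one (Cfsg.Agent.H729.Count.ok_ppow ok4 2) i hi hi2

theorem chk23 : chkPow l_m24 23 = true := by decide +kernel

def l11 : List (ℕ × ℕ) := [(2, 10), (3, 3), (5, 1), (7, 1), (11, 1)]

def n11 : ℕ := 10644480

theorem v11 : valid l11 n11 = true := by decide +kernel

/-- the arithmetic for `r = 11` -/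
theorem chk11 : (l11.all fun x => x.1 == 11 || (List.range (x.2 + 1)).all fun a => a == 0 || x.1 ^ a % 11 != 1 % 11 ||
    (x.1 == 2 && a == 10)) = true := by decide +kernel

theorem hC11 : ∀ R : Subgroup Cfsg.M24, Nat.card R = 11 → Nat.card (centralizer (R : Set Cfsg.M24)) = 11 :=
  fun _ hR => (cn24_11 hR).1

/-- no normal `11'`-subgroups -/
theorem hno11 {T : Subgroup Cfsg.M24} (h11 : 11 ∣ Nat.card T) (hTn : Nat.card T ∣ n11) :
    ∀ K : Subgroup T, K.Normal → ¬ 11 ∣ Nat.card K → K = ⊥ := by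
  have := Cfsg.Agent.H715.Fpr.M24.fin
  have hC : ∀ R : Subgroup T, Nat.card R = 11 → Nat.card (centralizer (R : Set T)) = 11 :=
    fun R hR => card_centralizer_sub (by norm_num) hC11 T hR
  intro K hK hrK
  refine eq_bot_of_normal (by norm_num) h11 hC hK hrK ?_
  intro p a hp ha hpa hfa
  obtain ⟨b, hb, hab⟩ := OrdDiv.exists_pair v11 hp ha ((hpa.trans (card_subgroup_dvd_card K)).trans hTn)
  have hchk := chk11
  rw [List.all_eq_true] at hchk
  have h1 := hchk _ hb
  rw [Bool.or_eq_true, beq_iff_eq, List.all_eq_true] at h1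
  rcases h1 with h1 | h1
  · exfalso
    have h2 : p = 11 := h1
    apply hrK
    rw [← h2]
    exact (dvd_pow_self p ha.ne').trans hpa
  · have h2 := h1 a (List.mem_range.2 (by omega))
    rw [Bool.or_eq_true, Bool.or_eq_true, beq_iff_eq, bne_iff_ne, Bool.and_eq_true, beq_iff_eq, beq_iff_eq] at h2
    rcases h2 with (h2 | h2) | ⟨h2, h3⟩
    · omega
    · exact h2
    · exfalso
      have hp2 : p = 2 := h2
      subst hp2
      subst h3
      obtain ⟨Q, R, hQ, hR, hRQ, hQK⟩ := exists_inv (by norm_num : Nat.Prime 11) h11 hrK Nat.prime_two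
      rw [hfa] at hQ
      have hsq := sq_eq_one (by norm_num : Nat.Prime 11) hR (hC R hR) hRQ hQ (by norm_num) (by norm_num)
        (fun a h1 h2 => by interval_cases a <;> decide)
      obtain ⟨y, hy4, hy2⟩ := exists_four
      apply hy2
      refine sq_of_sylow (Q := Q.map T.subtype) (n := 10) ?_ ?_ ?_ hy4
      · rw [card_map_of_injective T.subtype_injective]
        exact hQ
      · rw [card24]
        decide +kernel
      · rintro _ ⟨x, hx, rfl⟩
        rw [← map_mul, hsq x hx, map_one]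

theorem bound (B : Base) {T : Subgroup Cfsg.M24} (hT : T ≠ ⊤) (h : 23 ∣ Nat.card T ∨ 11 ∣ Nat.card T) :
    1 * (Nat.card T * Nat.card (ConjClasses T)) ≤ Nat.card Cfsg.M24 := by
  have := Cfsg.Agent.H715.Fpr.M24.fin
  rw [one_mul, card24]
  have hTn : Nat.card T ∣ n_m24 := card24 ▸ card_subgroup_dvd_card T
  have hTpos : 0 < Nat.card T := Nat.card_pos
  have hTne : Nat.card T ≠ n_m24 := by
    intro h1
    apply hT
    apply eq_top_of_card_eq
    rw [h1, card24]
  by_cases h23 : 23 ∣ Nat.card T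
  · have hC : ∀ R : Subgroup Cfsg.M24, Nat.card R = 23 → Nat.card (centralizer (R : Set Cfsg.M24)) = 23 :=
      fun R hR => (cn24_23 hR).1
    obtain ⟨M, hs, hM, hrM, hd⟩ := simple_cases (ords_m24 B) card24 (r := 23) (N := 253) (by norm_num)
      (by decide +kernel) (fun R hR => (cn24_23 hR).2.dvd) h23
      (hno_of (by norm_num) h23 (fun R hR => card_centralizer_sub (by norm_num) hC T hR) v_m24 hTn chk23)
    have hd2 : Nat.card T ∣ Nat.card M * 11 := by
      have h1 : Nat.card M * 253 = Nat.card M * 11 * 23 := by ring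
      rw [h1] at hd
      exact Nat.dvd_of_mul_dvd_mul_right (by norm_num) hd
    have hMT : Nat.card M ∣ Nat.card T := card_subgroup_dvd_card M
    have h2 : Nat.card M = 23 ∨ Nat.card M = 6072 ∨ Nat.card M = 10200960 ∨ Nat.card M = 244823040 := by
      rcases hM with h3 | h3
      · exact Or.inl h3
      · simp only [o_m24, List.mem_cons, List.not_mem_nil, or_false] at h3
        rcases h3 with h3 | h3 | h3 | h3 | h3 | h3 | h3 | h3 | h3 | h3 | h3 | h3 | h3 | h3 <;> rw [h3] at hrM ⊢ <;>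
          revert hrM <;> decide
    have key : ∀ s : ℕ, Nat.card M = s → Nat.gcd (s * 11) n_m24 = s → Nat.card T = s * 1 := by
      intro s h3 h4
      rw [h3] at hd2 hMT
      have h5 : Nat.card T ∣ Nat.gcd (s * 11) n_m24 := Nat.dvd_gcd hd2 hTn
      rw [h4] at h5
      rw [mul_one]
      exact Nat.dvd_antisymm h5 hMT
    rcases h2 with h3 | h3 | h3 | h3
    · rw [h3] at hd2
      exact M23.mul_k_le (Nat.le_of_dvd (by norm_num) hd2) (by decide +kernel)
    · have h4 := key _ h3 (by decide +kernel)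
      exact M23.mul_k_le h4.le (by decide +kernel)
    · have h4 := key _ h3 (by decide +kernel)
      exact (bound_of_simple M h3 h4 (k_m23 ⟨hs, h3⟩)).trans (by decide +kernel)
    · exfalso
      rw [h3] at hMT
      exact hTne (Nat.dvd_antisymm hTn hMT)
  · have h11 : 11 ∣ Nat.card T := h.resolve_left h23
    have hTn' : Nat.card T ∣ n11 := by
      have h1 : Nat.Coprime (Nat.card T) 23 := ((Nat.Prime.coprime_iff_not_dvd (by norm_num)).2 h23).symm
      have h2 : Nat.card T ∣ n11 * 23 := by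
        rw [show n11 * 23 = n_m24 by decide +kernel]
        exact hTn
      exact h1.dvd_of_dvd_mul_right h2
    obtain ⟨M, hs, hM, hrM, hd⟩ := simple_cases (ords_m24 B) card24 (r := 11) (N := 110) (by norm_num)
      (by decide +kernel) (fun R hR => (cn24_11 hR).2.dvd) h11 (hno11 h11 hTn')
    have hd2 : Nat.card T ∣ Nat.card M * 10 := by
      have h1 : Nat.card M * 110 = Nat.card M * 10 * 11 := by ring
      rw [h1] at hd
      exact Nat.dvd_of_mul_dvd_mul_right (by norm_num) hd
    have hMT : Nat.card M ∣ Nat.card T := card_subgroup_dvd_card M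
    have h2 : Nat.card M = 11 ∨ Nat.card M = 660 ∨ Nat.card M = 7920 ∨ Nat.card M = 95040 ∨ Nat.card M = 443520 := by
      rcases hM with h3 | h3
      · exact Or.inl h3
      · have h4 : ¬ 23 ∣ Nat.card M := fun h => h23 (h.trans hMT)
        simp only [o_m24, List.mem_cons, List.not_mem_nil, or_false] at h3
        rcases h3 with h3 | h3 | h3 | h3 | h3 | h3 | h3 | h3 | h3 | h3 | h3 | h3 | h3 | h3 <;> rw [h3] at hrM h4 ⊢ <;>
          revert hrM h4 <;> decide
    -- the index is 1 or 2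
    have key : ∀ s : ℕ, Nat.card M = s → Nat.gcd (s * 10) n11 ∣ s * 2 → 0 < s →
        Nat.card T = s * 1 ∨ Nat.card T = s * 2 := by
      intro s h3 h4 h0
      rw [h3] at hd2 hMT
      have h5 : Nat.card T ∣ s * 2 := (Nat.dvd_gcd hd2 hTn').trans h4
      obtain ⟨i, hi⟩ := hMT
      rw [hi] at h5 ⊢
      have h6 : i ∣ 2 := Nat.dvd_of_mul_dvd_mul_left h0 h5
      rcases (Nat.dvd_prime Nat.prime_two).1 h6 with h7 | h7
      · left; rw [h7]
      · right; rw [h7]
    have fin : ∀ s k : ℕ, Nat.card M = s → Nat.card (ConjClasses M) ≤ k →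
        (Nat.card T = s * 1 ∨ Nat.card T = s * 2) → s * 1 * (1 * k) ≤ n_m24 → s * 2 * (2 * k) ≤ n_m24 →
        Nat.card T * Nat.card (ConjClasses T) ≤ n_m24 := by
      intro s k h3 h4 h5 h6 h7
      rcases h5 with h5 | h5
      · exact (bound_of_simple M h3 h5 h4).trans h6
      · exact (bound_of_simple M h3 h5 h4).trans h7
    rcases h2 with h3 | h3 | h3 | h3 | h3
    · rw [h3] at hd2
      exact M23.mul_k_le (Nat.le_of_dvd (by norm_num) hd2) (by decide +kernel)
    · exact fin _ 660 h3 (Cfsg.Agent.H540.ClassNum.card_conjClasses_le_card.trans h3.le)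
        (key _ h3 (by decide +kernel) (by norm_num)) (by decide +kernel) (by decide +kernel)
    · exact fin _ 10 h3 (k_m11 ⟨hs, h3⟩)
        (key _ h3 (by decide +kernel) (by norm_num)) (by decide +kernel) (by decide +kernel)
    · exact fin _ 120 h3 (k_m12 ⟨hs, h3⟩)
        (key _ h3 (by decide +kernel) (by norm_num)) (by decide +kernel) (by decide +kernel)
    · exact fin _ 12 h3 (k_m22 ⟨hs, h3⟩)
        (key _ h3 (by decide +kernel) (by norm_num)) (by decide +kernel) (by decide +kernel)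

/-- **FROB row of `M24`** -/
theorem row (B : Base) {X : Type u} [Group X] [Finite X] (hX : Cfsg.IsM24 X) (D : Set ℕ) : FrobRow 1 D X := by
  obtain ⟨e⟩ := Cfsg.Agent.S0422.result hX
  refine congr e ?_
  have := Cfsg.Agent.H715.Fpr.M24.fin
  obtain ⟨P, hP⟩ : ∃ P : Subgroup Cfsg.M24, Nat.card P = 23 :=
    exists_card_eq (by decide +kernel) (by rw [card24]; decide +kernel)
  refine frobRow_of (p := 23) (q := 11) (by norm_num) (by norm_num) hP ?_ ?_ fun T hT h _ => bound B hT h
  · rw [(cn24_23 hP).2]; norm_num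
  · rw [(cn24_23 hP).1]; norm_num

end Cfsg.Agent.H772.S8.M24
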