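import Cfsg.Agent.H772.S8.Tool
import Cfsg.Agent.H334.Ore.M22
import Cfsg.Agent.H334.Ore.M23
import Cfsg.Agent.S1663
import Cfsg.Agent.S1664
import Cfsg.Agent.H261.TI.Mathieu

/-!
# Class numbers of Mathieu groups, upper bounds (helper772)
-/

set_option autoImplicit false

namespace Cfsg.Agent.H772.S8

open Cfsg Subgroup Cfsg.Agent.SporadicStructure.M24El

universe u

/-- `k(M11) = 10` -/
theorem k_m11 {M : Type u} [Group M] [Finite M] (h : IsM11 M) : Nat.card (ConjClasses M) ≤ 10 :=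
  (Cfsg.Agent.H261.TI.k_m11 h).le

/-- `k(M22) ≤ 12` -/
theorem k_m22 {M : Type u} [Group M] [Finite M] (h : IsM22 M) : Nat.card (ConjClasses M) ≤ 12 := by
  obtain ⟨e⟩ := Cfsg.Agent.S1663.result h
  rw [card_classes_congr e]
  exact card_classes_of_cov Cfsg.Agent.H729.M22Deg.inc Cfsg.Agent.H729.M22Deg.inc_injective
    Cfsg.Agent.H334.Ore.M22Data.D (fun r => el r.c) Cfsg.Agent.H334.Ore.M22.cov

/-- `k(M23) ≤ 17` -/
theorem k_m23 {M : Type u} [Group M] [Finite M] (h : IsM23 M) : Nat.card (ConjClasses M) ≤ 17 := by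
  obtain ⟨e⟩ := Cfsg.Agent.S1664.result h
  rw [card_classes_congr e]
  exact card_classes_of_cov Cfsg.Agent.H334.Ore.M23.inc23 Cfsg.Agent.H334.Ore.M23.inc23_injective
    Cfsg.Agent.H334.Ore.M23Data.D (fun r => el r.c) Cfsg.Agent.H334.Ore.M23.cov

end Cfsg.Agent.H772.S8
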